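import Mathlib
import Cfsg.Agent.Characters.Values

/-!
# A representation of degree 6 in which all elements of a group `3²` are conjugate (helper266, for S4879)

`nine` : if `u₁, u₂` are commuting elements with `u₁³ = u₂³ = 1` and all `u₁ⁱ u₂ʲ ≠ (0, 0)` are conjugate to `u₁`, then
`u₁` acts trivially in every representation of degree 6.
-/

set_option autoImplicit false

namespace Cfsg.Agent.H266.LB

open Module

universe u v

/-- the group `3²` -/
abbrev A9 : Type := Multiplicative (ZMod 3 × ZMod 3)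

/-- the homomorphism given by two commuting elements -/
def ph {G : Type u} [Group G] {u₁ u₂ : G} (h1 : u₁ ^ 3 = 1) (h2 : u₂ ^ 3 = 1) (hc : Commute u₁ u₂) : A9 →* G where
  toFun a := u₁ ^ (a.toAdd.1.val) * u₂ ^ (a.toAdd.2.val)
  map_one' := by
    show u₁ ^ ((0 : ZMod 3).val) * u₂ ^ ((0 : ZMod 3).val) = 1
    rw [ZMod.val_zero, pow_zero, pow_zero, one_mul]
  map_mul' a b := by
    show u₁ ^ ((a.toAdd.1 + b.toAdd.1 : ZMod 3).val) * u₂ ^ ((a.toAdd.2 + b.toAdd.2 : ZMod 3).val) = _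
    rw [ZMod.val_add, ZMod.val_add, ← pow_eq_pow_mod _ h1, ← pow_eq_pow_mod _ h2, pow_add, pow_add]
    have h := (hc.pow_pow (b.toAdd.1.val) (a.toAdd.2.val)).eq
    calc u₁ ^ a.toAdd.1.val * u₁ ^ b.toAdd.1.val * (u₂ ^ a.toAdd.2.val * u₂ ^ b.toAdd.2.val) =
        u₁ ^ a.toAdd.1.val * (u₁ ^ b.toAdd.1.val * u₂ ^ a.toAdd.2.val) * u₂ ^ b.toAdd.2.val := by group
      _ = u₁ ^ a.toAdd.1.val * (u₂ ^ a.toAdd.2.val * u₁ ^ b.toAdd.1.val) * u₂ ^ b.toAdd.2.val := by rw [h]
      _ = _ := by group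

theorem ph_apply {G : Type u} [Group G] {u₁ u₂ : G} (h1 : u₁ ^ 3 = 1) (h2 : u₂ ^ 3 = 1) (hc : Commute u₁ u₂)
    (a : A9) : ph h1 h2 hc a = u₁ ^ (a.toAdd.1.val) * u₂ ^ (a.toAdd.2.val) := rfl

/-- **All the elements of `3²` are conjugate: a representation of degree 6 is trivial on it.** -/
theorem nine {G : Type u} [Group G] {V : Type v} [AddCommGroup V] [Module ℂ V] [FiniteDimensional ℂ V]
    (ρ : Representation ℂ G V) (hd : finrank ℂ V = 6) {u₁ u₂ : G} (h1 : u₁ ^ 3 = 1) (h2 : u₂ ^ 3 = 1)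
    (hc : Commute u₁ u₂) (hconj : ∀ i j : ZMod 3, (i, j) ≠ 0 → IsConj u₁ (u₁ ^ i.val * u₂ ^ j.val)) : ρ u₁ = 1 := by
  set σ : Representation ℂ A9 V := ρ.comp (ph h1 h2 hc) with hσ
  have hv : ∀ a : A9, a ≠ 1 → σ.character a = ρ.character u₁ := by
    intro a ha
    have h3 := hconj a.toAdd.1 a.toAdd.2 (fun h => ha (by
      have h4 : a.toAdd = 0 := h
      exact h4))
    obtain ⟨c, hc'⟩ := isConj_iff.1 h3
    show ρ.character (ph h1 h2 hc a) = _
    rw [ph_apply, ← hc', Representation.char_conj]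
  have h0 : σ.character 1 = 6 := by
    rw [Representation.char_one, hd]
    norm_num
  obtain ⟨m, hm⟩ : ∃ m : ℕ, m = finrank ℂ σ.invariants := ⟨_, rfl⟩
  have hm6 : m ≤ 6 := by
    rw [hm, ← hd]
    exact Submodule.finrank_le _
  -- the average
  have hs : ∑ a : A9, σ.character a = 6 + 8 * ρ.character u₁ := by
    rw [← Finset.add_sum_erase _ _ (Finset.mem_univ (1 : A9)), h0,
      Finset.sum_congr rfl (fun a ha => hv a (Finset.ne_of_mem_erase ha)), Finset.sum_const,
      Finset.card_erase_of_mem (Finset.mem_univ _)]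
    have h3 : (Finset.univ : Finset A9).card = 9 := by decide
    rw [h3]
    simp
  have ha : 6 + 8 * ρ.character u₁ = 9 * (m : ℂ) := by
    have h3 := Representation.card_inv_mul_sum_char_eq_finrank σ
    rw [hs, ← hm] at h3
    have h4 : (Fintype.card A9 : ℂ) = 9 := by
      have : Fintype.card A9 = 9 := by decide
      rw [this]
      norm_num
    first
      | rw [h4] at h3
      | (rw [Nat.card_eq_fintype_card, h4] at h3)
    field_simp at h3
    linear_combination h3
  have hint : IsIntegral ℤ (ρ.character u₁) := by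
    have h3 := Cfsg.Agent.Characters.Values.character_isIntegral σ (Multiplicative.ofAdd ((1 : ZMod 3), (0 : ZMod 3)))
    rwa [hv _ (by decide)] at h3
  -- the value is an integer
  have hq : ρ.character u₁ = (((9 * (m : ℚ) - 6) / 8 : ℚ) : ℂ) := by
    push_cast
    linear_combination ha / 8
  rw [hq] at hint
  have hint2 : IsIntegral ℤ ((9 * (m : ℚ) - 6) / 8 : ℚ) := by
    have h3 : Function.Injective (algebraMap ℚ ℂ) := (algebraMap ℚ ℂ).injective
    rw [← isIntegral_algebraMap_iff h3]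
    exact hint
  obtain ⟨z, hz⟩ := IsIntegrallyClosed.isIntegral_iff.1 hint2
  have hz1 : (9 * (m : ℤ) - 6) = 8 * z := by
    have h3 : (z : ℚ) = (9 * (m : ℚ) - 6) / 8 := hz
    have h4 : (9 * (m : ℚ) - 6) = 8 * z := by rw [h3]; ring
    exact_mod_cast h4
  have hm' : m = 6 := by omega
  -- so everything is invariant
  have htop : σ.invariants = ⊤ := by
    apply Submodule.eq_top_of_finrank_eq
    rw [← hm, hm', hd]
  have h3 : ∀ x : V, ρ u₁ x = x := by
    intro x
    have h4 : x ∈ σ.invariants := by rw [htop]; trivial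
    have h5 := h4 (Multiplicative.ofAdd ((1 : ZMod 3), (0 : ZMod 3)))
    have h6 : ph h1 h2 hc (Multiplicative.ofAdd ((1 : ZMod 3), (0 : ZMod 3))) = u₁ := by
      rw [ph_apply]
      show u₁ ^ ((1 : ZMod 3).val) * u₂ ^ ((0 : ZMod 3).val) = u₁
      rw [ZMod.val_zero, pow_zero, mul_one]
      exact pow_one _
    have h7 : σ (Multiplicative.ofAdd ((1 : ZMod 3), (0 : ZMod 3))) x = ρ u₁ x := by
      show ρ (ph h1 h2 hc (Multiplicative.ofAdd ((1 : ZMod 3), (0 : ZMod 3)))) x = _
      rw [h6]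
    rw [← h7]
    exact h5
  exact LinearMap.ext h3

end Cfsg.Agent.H266.LB
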