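import Cfsg.Agent.KFacts.He.TwoAPlane
import Cfsg.Agent.H266.LB.Nine

/-!
# The group `L = 2².L₃(4)` of the Held group has no nontrivial representation of degree 6 (helper266, for S4879)

`L_triv` : a representation of degree 6 of `L` is trivial (`3² : Q₈ ≤ L₃(4)` fuses the elements of `3²`).
-/

set_option autoImplicit false
set_option maxRecDepth 100000

namespace Cfsg.Agent.H266.LB

open Cfsg Subgroup Module
open scoped commutatorElement
open Cfsg.Spor.He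
open Cfsg.Agent.KFacts.He.Lv Cfsg.Agent.KFacts.He.TwoACent Cfsg.Agent.KFacts.He.TwoAPlane
open Cfsg.Agent.SporadicA.FieldFour Cfsg.Agent.ONType.Psl

universe u v

def m1 : Matrix (Fin 3) (Fin 3) F4 := ![![.o, .z, .z], ![.z, .w, .z], ![.z, .z, .v]]
def m2 : Matrix (Fin 3) (Fin 3) F4 := ![![.z, .o, .z], ![.z, .z, .o], ![.o, .z, .z]]

/-- the conjugating matrices -/
def cm : ℕ → ℕ → Matrix (Fin 3) (Fin 3) F4
  | 0, 1 => ![![.o, .o, .o], ![.o, .w, .v], ![.o, .v, .w]]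
  | 0, 2 => ![![.o, .o, .o], ![.o, .v, .w], ![.o, .w, .v]]
  | 1, 0 => ![![.o, .z, .z], ![.z, .o, .z], ![.z, .z, .o]]
  | 1, 1 => ![![.o, .o, .w], ![.o, .w, .o], ![.v, .w, .w]]
  | 1, 2 => ![![.o, .o, .v], ![.w, .o, .w], ![.o, .w, .w]]
  | 2, 0 => ![![.o, .z, .z], ![.z, .z, .o], ![.z, .o, .z]]
  | 2, 1 => ![![.o, .o, .v], ![.o, .w, .w], ![.w, .o, .w]]
  | 2, 2 => ![![.o, .o, .w], ![.v, .w, .w], ![.o, .w, .o]]
  | _, _ => ![![.o, .z, .z], ![.z, .o, .z], ![.z, .z, .o]]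

theorem det_m1 : m1.det = 1 := by rw [Matrix.det_fin_three]; decide +kernel
theorem det_m2 : m2.det = 1 := by rw [Matrix.det_fin_three]; decide +kernel
theorem det_cm : ∀ i j : Fin 3, (cm i j).det = 1 := by
  intro i j
  rw [Matrix.det_fin_three]
  revert i j
  decide +kernel

def g1 : SL3 := ⟨m1, det_m1⟩
def g2 : SL3 := ⟨m2, det_m2⟩
def gc (i j : Fin 3) : SL3 := ⟨cm i j, det_cm i j⟩

/-- powers of a matrix -/
def mp (M : Matrix (Fin 3) (Fin 3) F4) : ℕ → Matrix (Fin 3) (Fin 3) F4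
  | 0 => 1
  | n + 1 => mp M n * M

theorem coe_pow (g : SL3) (n : ℕ) : ((g ^ n : SL3) : Matrix (Fin 3) (Fin 3) F4) = mp g n := by
  induction n with
  | zero => rw [pow_zero]; rfl
  | succ n ih =>
    rw [pow_succ, Matrix.SpecialLinearGroup.coe_mul, ih]
    rfl

theorem conj_tab : ∀ i j : Fin 3, ¬ (i = 0 ∧ j = 0) → cm i j * m1 = mp m1 i * mp m2 j * cm i j := by decide +kernel

theorem comm_tab : m1 * m2 = m2 * m1 * Matrix.scalar (Fin 3) F4.v := by decide +kernel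

theorem comm_ne : m1 * m2 ≠ m2 * m1 := by decide +kernel

theorem cube1 : mp m1 3 = 1 := by decide +kernel
theorem cube2 : mp m2 3 = 1 := by decide +kernel

def p1 : PSL3 := (QuotientGroup.mk g1 : PSL3)
def p2 : PSL3 := (QuotientGroup.mk g2 : PSL3)

theorem p1_cube : p1 ^ 3 = 1 := by
  have h1 : g1 ^ 3 = 1 := Subtype.ext ((coe_pow g1 3).trans cube1)
  have h2 : ((g1 ^ 3 : SL3) : PSL3) = 1 := by rw [h1]; rfl
  exact h2

theorem p2_cube : p2 ^ 3 = 1 := by
  have h1 : g2 ^ 3 = 1 := Subtype.ext ((coe_pow g2 3).trans cube2)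
  have h2 : ((g2 ^ 3 : SL3) : PSL3) = 1 := by rw [h1]; rfl
  exact h2

theorem p1_ne : p1 ≠ 1 := by
  intro h
  have h1 : g1 ∈ center SL3 := (QuotientGroup.eq_one_iff g1).1 h
  have h2 : g2 * g1 = g1 * g2 := mem_center_iff.1 h1 g2
  exact comm_ne (congrArg Subtype.val h2).symm

theorem p_comm : p1 * p2 = p2 * p1 := by
  have h1 : (g2 * g1)⁻¹ * (g1 * g2) ∈ center SL3 := by
    refine scalar_mem _ F4.v ?_
    rw [Matrix.SpecialLinearGroup.coe_mul]
    have h2 : ((g1 * g2 : SL3) : Matrix (Fin 3) (Fin 3) F4) = ((g2 * g1 : SL3) : Matrix (Fin 3) (Fin 3) F4) *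
      Matrix.scalar (Fin 3) F4.v := by
      rw [Matrix.SpecialLinearGroup.coe_mul, Matrix.SpecialLinearGroup.coe_mul]
      exact comm_tab
    rw [h2, ← mul_assoc, ← Matrix.SpecialLinearGroup.coe_mul, inv_mul_cancel, Matrix.SpecialLinearGroup.coe_one, one_mul]
  exact (QuotientGroup.eq.2 h1).symm

theorem p_conj (i j : Fin 3) (h : ¬ (i = 0 ∧ j = 0)) : ∃ γ : PSL3, γ * p1 = p1 ^ (i : ℕ) * p2 ^ (j : ℕ) * γ := by
  refine ⟨(QuotientGroup.mk (gc i j) : PSL3), ?_⟩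
  have h1 : gc i j * g1 = g1 ^ (i : ℕ) * g2 ^ (j : ℕ) * gc i j := by
    apply Subtype.ext
    show cm i j * m1 = ((g1 ^ (i : ℕ) * g2 ^ (j : ℕ) * gc i j : SL3) : Matrix (Fin 3) (Fin 3) F4)
    rw [Matrix.SpecialLinearGroup.coe_mul, Matrix.SpecialLinearGroup.coe_mul, coe_pow, coe_pow]
    exact conj_tab i j h
  exact congrArg (QuotientGroup.mk : SL3 → PSL3) h1

/-! ### lifts to `L` -/

theorem mem_V_of_Th {x : ↥L} (hx : Th x = 1) : (x : Spor.He) ∈ V := by
  have h1 : x ∈ Th.ker := hx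
  rw [ker_Th] at h1
  exact mem_subgroupOf.1 h1

theorem V_pow {x : Spor.He} (hx : x ∈ V) : x ^ 4 = 1 := by
  have h1 : (⟨x, hx⟩ : ↥V) ^ Nat.card ↥V = 1 := pow_card_eq_one'
  rw [card_V] at h1
  exact congrArg Subtype.val h1

theorem pow_four {x : ↥L} (hx : Th x = 1) : x ^ 4 = 1 := Subtype.ext (V_pow (mem_V_of_Th hx))

theorem central {x : ↥L} (hx : Th x = 1) (y : ↥L) : Commute y x :=
  Subtype.ext (mem_V.1 (mem_V_of_Th hx) y y.2)

/-- two elements with cube 1 and the same image are equal -/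
theorem eq_of_Th {x y : ↥L} (hx : x ^ 3 = 1) (hy : y ^ 3 = 1) (h : Th x = Th y) : x = y := by
  have h1 : Th (x * y⁻¹) = 1 := by rw [map_mul, map_inv, h, mul_inv_cancel]
  have h2 := pow_four h1
  have h3 : x = y * (x * y⁻¹) := by
    rw [(central h1 y).eq]
    group
  have h4 : (x * y⁻¹) ^ 3 = 1 := by
    have h5 : x ^ 3 = y ^ 3 * (x * y⁻¹) ^ 3 := by
      conv_lhs => rw [h3]
      rw [(central h1 y).mul_pow]
    rw [hx, hy, one_mul] at h5
    exact h5.symm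
  have h5 : x * y⁻¹ = 1 := by
    have h6 : (x * y⁻¹) ^ 4 = (x * y⁻¹) ^ 3 * (x * y⁻¹) := pow_succ _ 3
    rw [h2, h4, one_mul] at h6
    exact h6.symm
  exact mul_inv_eq_one.1 h5

/-- lifting an element of order 3 -/
theorem exists_cube {γ : PSL3} (h : γ ^ 3 = 1) : ∃ x : ↥L, x ^ 3 = 1 ∧ Th x = γ := by
  obtain ⟨x, hx⟩ := Th_surjective γ
  refine ⟨x ^ 4, ?_, ?_⟩
  · rw [← pow_mul, show 4 * 3 = 3 * 4 from rfl, pow_mul]
    exact pow_four (by rw [map_pow, hx, h])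
  · rw [map_pow, hx, pow_succ, h, one_mul]

/-- **A representation of degree 6 of `L` is trivial.** -/
theorem L_triv {W : Type v} [AddCommGroup W] [Module ℂ W] [FiniteDimensional ℂ W] (ρ : Representation ℂ ↥L W)
    (hd : finrank ℂ W = 6) (x : ↥L) : ρ x = 1 := by
  obtain ⟨u₁, h1, t1⟩ := exists_cube p1_cube
  obtain ⟨u₂, h2, t2⟩ := exists_cube p2_cube
  have hc : Commute u₁ u₂ := by
    have h3 : u₁ * u₂ * u₁⁻¹ = u₂ := by
      refine eq_of_Th ?_ h2 ?_
      · rw [conj_pow, h2, mul_one, mul_inv_cancel]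
      · rw [map_mul, map_mul, map_inv, t1, t2, p_comm, mul_inv_cancel_right]
    exact mul_inv_eq_iff_eq_mul.1 h3
  have hu : ρ u₁ = 1 := by
    refine nine ρ hd h1 h2 hc ?_
    intro i j hij
    obtain ⟨γ, hγ⟩ := p_conj (⟨i.val, ZMod.val_lt i⟩ : Fin 3) (⟨j.val, ZMod.val_lt j⟩ : Fin 3) (by
      rintro ⟨a1, a2⟩
      apply hij
      have b1 : i.val = 0 := congrArg Fin.val a1
      have b2 : j.val = 0 := congrArg Fin.val a2
      rw [ZMod.val_eq_zero] at b1 b2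
      rw [b1, b2]
      rfl)
    obtain ⟨g, rfl⟩ := Th_surjective γ
    rw [isConj_iff]
    refine ⟨g, eq_of_Th ?_ ?_ ?_⟩
    · rw [conj_pow, h1, mul_one, mul_inv_cancel]
    · rw [(hc.pow_pow i.val j.val).mul_pow, ← pow_mul, ← pow_mul, mul_comm i.val, mul_comm j.val, pow_mul, pow_mul, h1, h2,
        one_pow, one_pow, one_mul]
    · rw [map_mul, map_mul, map_inv, map_mul, map_pow, map_pow, t1, t2]
      exact mul_inv_eq_iff_eq_mul.2 hγ
  -- the kernel
  set N : Subgroup ↥L := MonoidHom.ker ρ with hN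
  have huN : u₁ ∈ N := hu
  have hnorm : (N.map Th).Normal := Subgroup.Normal.map inferInstance Th Th_surjective
  have hs : IsSimpleGroup PSL3 := Cfsg.Agent.S0249.result 3 le_rfl
  have htop : N.map Th = ⊤ := by
    rcases hs.eq_bot_or_eq_top_of_normal (N.map Th) hnorm with h3 | h3
    · exfalso
      have h4 : Th u₁ ∈ N.map Th := mem_map_of_mem Th huN
      rw [h3, mem_bot, t1] at h4
      exact p1_ne h4
    · exact h3
  have hex : ∀ l : ↥L, ∃ n ∈ N, ∃ w : ↥L, Th w = 1 ∧ l = n * w := by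
    intro l
    have h4 : Th l ∈ N.map Th := by rw [htop]; trivial
    obtain ⟨n, hn, hnl⟩ := h4
    exact ⟨n, hn, n⁻¹ * l, by rw [map_mul, map_inv, hnl, inv_mul_cancel], by group⟩
  have hcomm : commutator ↥L ≤ N := by
    rw [_root_.commutator_def, commutator_le]
    intro a _ b _
    obtain ⟨n, hn, w, hw, rfl⟩ := hex a
    obtain ⟨n', hn', w', hw', rfl⟩ := hex b
    have c1 : ∀ y : ↥L, y * w = w * y := fun y => (central hw y).eq
    have c2 : ∀ y : ↥L, y * w' = w' * y := fun y => (central hw' y).eq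
    have h5 : ⁅n * w, n' * w'⁆ = n * n' * n⁻¹ * n'⁻¹ := by
      rw [commutatorElement_def, mul_inv_rev, mul_inv_rev]
      calc n * w * (n' * w') * (w⁻¹ * n⁻¹) * (w'⁻¹ * n'⁻¹) = n * (w * (n' * w') * w⁻¹) * n⁻¹ * w'⁻¹ * n'⁻¹ := by group
        _ = n * ((n' * w') * w * w⁻¹) * n⁻¹ * w'⁻¹ * n'⁻¹ := by rw [← c1 (n' * w')]
        _ = n * n' * (w' * n⁻¹) * w'⁻¹ * n'⁻¹ := by group
        _ = n * n' * (n⁻¹ * w') * w'⁻¹ * n'⁻¹ := by rw [← c2 n⁻¹]
        _ = _ := by group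
    rw [h5]
    exact N.mul_mem (N.mul_mem (N.mul_mem hn hn') (N.inv_mem hn)) (N.inv_mem hn')
  have hperf : commutator ↥L = ⊤ := by
    have h4 : (commutator ↥L).map L.subtype = L := by
      rw [_root_.commutator_def, map_commutator, ← MonoidHom.range_eq_map, range_subtype, perf]
    rw [eq_top_iff]
    intro y _
    have h5 : (y : Cfsg.Spor.He) ∈ (commutator ↥L).map L.subtype := by rw [h4]; exact y.2
    obtain ⟨z, hz, hzy⟩ := h5
    rwa [← Subtype.ext hzy]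
  have h6 : x ∈ N := hcomm (by rw [hperf]; trivial)
  exact h6

end Cfsg.Agent.H266.LB
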