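import Cfsg.Agent.H997.OutHe2
import Cfsg.Agent.H266.LB.HeSix

/-!
# No element of order 7 of `C_He(2A) = 2².L₃(4).2` is inverted in `C_He(2A)` (helper266, for S4879)
-/

set_option autoImplicit false
set_option maxRecDepth 100000

namespace Cfsg.Agent.H266.LB

open Cfsg Subgroup Module
open scoped Pointwise
open Cfsg.Spor.He Cfsg.Agent.SporadicB.HePerm Cfsg.Agent.FixBN.HeStab
open Cfsg.Agent.KFacts.He.Lv Cfsg.Agent.KFacts.He.TwoACent Cfsg.Agent.KFacts.He.TwoAPlane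
open Cfsg.Agent.SporadicA.FieldFour Cfsg.Agent.ONType.Psl

/-- subgroups of order 7 are conjugate if 49 does not divide the order -/
theorem exists_conj_seven {G : Type*} [Group G] [Finite G] (hG : ¬ 7 ^ 2 ∣ Nat.card G) {x y : G} (hx : orderOf x = 7)
    (hy : orderOf y = 7) : ∃ (g : G) (n : ℕ), g * x * g⁻¹ = y ^ n := by
  have h7 : Fact (Nat.Prime 7) := ⟨by norm_num⟩
  have hp : ∀ z : G, orderOf z = 7 → ∃ P : Sylow 7 G, (P : Subgroup G) = zpowers z := by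
    intro z hz
    have h1 : IsPGroup 7 (zpowers z) := IsPGroup.of_card (n := 1) (by rw [Nat.card_zpowers, hz, pow_one])
    obtain ⟨P, hP⟩ := h1.exists_le_sylow
    refine ⟨P, (eq_of_le_of_card_ge hP ?_).symm⟩
    obtain ⟨n, hn⟩ := IsPGroup.iff_card.1 P.2
    have h2 : n < 2 := by
      by_contra h3
      push Not at h3
      exact hG (dvd_trans (pow_dvd_pow 7 h3) (hn ▸ P.1.card_subgroup_dvd_card))
    rw [Nat.card_zpowers, hz]
    show Nat.card P ≤ 7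
    rw [hn]
    calc 7 ^ n ≤ 7 ^ 1 := Nat.pow_le_pow_right (by norm_num) (by omega)
      _ = 7 := by norm_num
  obtain ⟨P, hP⟩ := hp x hx
  obtain ⟨Q, hQ⟩ := hp y hy
  obtain ⟨g, hg⟩ := MulAction.exists_smul_eq G P Q
  have h1 : g * x * g⁻¹ ∈ (Q : Subgroup G) := by
    rw [← hg]
    have h2 : x ∈ (P : Subgroup G) := by rw [hP]; exact mem_zpowers x
    rw [Sylow.coe_subgroup_smul]
    exact Subgroup.smul_mem_pointwise_smul x (MulAut.conj g) (P : Subgroup G) h2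
  rw [hQ] at h1
  obtain ⟨n, hn⟩ := (mem_powers_iff_mem_zpowers.2 h1 : g * x * g⁻¹ ∈ Submonoid.powers y)
  exact ⟨g, n, hn.symm⟩

/-! ### the element `d f g` -/

def mw : Matrix (Fin 3) (Fin 3) F4 := mD * mF * mG
def mwi : Matrix (Fin 3) (Fin 3) F4 := ![![.z, .o, .v], ![.v, .z, .z], ![.z, .v, .z]]

theorem mw_mwi : mw * mwi = 1 := by decide +kernel
theorem tr_mw : mw 0 0 + mw 1 1 + mw 2 2 = F4.v := by decide +kernel
theorem tr_mwi : mwi 0 0 + mwi 1 1 + mwi 2 2 = F4.z := by decide +kernel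

def gD : SL3 := ⟨mD, det_mD⟩
def gF : SL3 := ⟨mF, det_mF⟩
def gG : SL3 := ⟨mG, det_mG⟩
def gw : SL3 := gD * gF * gG

theorem coe_gw : (gw : Matrix (Fin 3) (Fin 3) F4) = mw := rfl

theorem coe_gwi : ((gw⁻¹ : SL3) : Matrix (Fin 3) (Fin 3) F4) = mwi := by
  have h1 : ((gw⁻¹ * gw : SL3) : Matrix (Fin 3) (Fin 3) F4) * mwi = mwi := by
    rw [inv_mul_cancel, Matrix.SpecialLinearGroup.coe_one, one_mul]
  rw [Matrix.SpecialLinearGroup.coe_mul, mul_assoc, coe_gw, mw_mwi, mul_one] at h1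
  exact h1

/-- the image in `PSL₃(4)` is not inverted -/
theorem psl_no_inv (γ : PSL3) (h : γ * (gw : PSL3) * γ⁻¹ = (gw : PSL3)⁻¹) : False := by
  obtain ⟨g, rfl⟩ := QuotientGroup.mk_surjective γ
  have h1 : ((g * gw * g⁻¹ : SL3) : PSL3) = ((gw⁻¹ : SL3) : PSL3) := h
  have h2 : (gw⁻¹)⁻¹ * (g * gw * g⁻¹) ∈ center SL3 := QuotientGroup.eq.1 h1.symm
  obtain ⟨r, -, hr⟩ := Matrix.SpecialLinearGroup.mem_center_iff.1 h2
  have h3 : ((g * gw * g⁻¹ : SL3) : Matrix (Fin 3) (Fin 3) F4) = mwi * Matrix.scalar (Fin 3) r := by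
    rw [hr, ← coe_gwi, ← Matrix.SpecialLinearGroup.coe_mul, mul_inv_cancel_left]
  have h4 : Matrix.trace ((g * gw * g⁻¹ : SL3) : Matrix (Fin 3) (Fin 3) F4) = F4.v := by
    rw [Matrix.SpecialLinearGroup.coe_mul, Matrix.trace_mul_comm, ← Matrix.SpecialLinearGroup.coe_mul, inv_mul_cancel_left,
      coe_gw, Matrix.trace_fin_three, tr_mw]
  rw [h3, Matrix.scalar_apply, Matrix.trace_fin_three, Matrix.mul_diagonal, Matrix.mul_diagonal, Matrix.mul_diagonal,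
    ← add_mul, ← add_mul, tr_mwi] at h4
  have h5 : ∀ r : F4, F4.z * r ≠ F4.v := by decide +kernel
  exact h5 _ h4

/-- the element of order 7 -/
def w0 : Spor.He := wd [.d, .f, .g]

theorem w0_mem : w0 ∈ L := wd_mem_L (by decide)

theorem w0_pow : w0 ^ 7 = 1 := by
  have h := eq_of_chkB (v := [.d, .f, .g] ++ ([.d, .f, .g] ++ ([.d, .f, .g] ++ ([.d, .f, .g] ++ ([.d, .f, .g] ++
    ([.d, .f, .g] ++ [.d, .f, .g])))))) (w := []) (by decide +kernel)
  rw [wd_append, wd_append, wd_append, wd_append, wd_append, wd_append, wd_nil] at h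
  rw [← h]
  unfold w0
  generalize wd [.d, .f, .g] = z
  simp only [pow_succ, pow_zero, one_mul, mul_assoc]

theorem w0_ne : w0 ≠ 1 := by
  unfold w0
  rw [← wd_nil]
  exact ne_of_act 8 (by decide +kernel)

theorem w0_order : orderOf w0 = 7 := by
  have : Fact (Nat.Prime 7) := ⟨by norm_num⟩
  exact orderOf_eq_prime w0_pow w0_ne

theorem s_comm_w0 : s * w0 = w0 * s := by
  have h := eq_of_chkB (v := [.b, .a, .b] ++ [.d, .f, .g]) (w := [.d, .f, .g] ++ [.b, .a, .b]) (by decide +kernel)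
  rwa [wd_append, wd_append] at h

theorem Th_w0 : Th ⟨w0, w0_mem⟩ = (gw : PSL3) := by
  have h1 : Rl w0 ((gD : PSL3) * (gF : PSL3) * (gG : PSL3)) := by
    have e : w0 = wd [.d] * wd [.f] * wd [.g] := by
      unfold w0
      rw [wd_cons, wd_cons, wd_one, wd_one, wd_one, mul_assoc]
    rw [e]
    have a1 : Rl (wd [.d]) (gD : PSL3) := rl_of_chk chkD' det_mD
    have a2 : Rl (wd [.f]) (gF : PSL3) := rl_of_chk chkF det_mF
    have a3 : Rl (wd [.g]) (gG : PSL3) := rl_of_chk chkG det_mG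
    exact (a1.mul a2).mul a3
  have h2 : Th ⟨w0, w0_mem⟩ = (gD : PSL3) * (gF : PSL3) * (gG : PSL3) := (Th_spec ⟨w0, w0_mem⟩).unique h1
  rw [h2]
  rfl

/-- **No element of order 7 of `C(a)` is inverted in `C(a)`.** -/
theorem he_no_inv {k w : Spor.He} (hk : k * gn .a = gn .a * k) (hw : w * gn .a = gn .a * w) (h7 : orderOf w = 7)
    (hi : k * w * k⁻¹ = w⁻¹) : False := by
  have hfin : Finite Spor.He := finite_he
  -- a conjugate of `w₀`
  have hC : ¬ 7 ^ 2 ∣ Nat.card (centralizer ({gn .a} : Set Spor.He)) := fun h =>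
    absurd (h.trans H997.OutHe.card_cent_a) (by norm_num)
  obtain ⟨⟨g, hgm⟩, n, hg⟩ := exists_conj_seven hC
    (x := (⟨w0, mem_centralizer_singleton_iff.2 (L_comm_a w0_mem)⟩ : centralizer ({gn .a} : Set Spor.He)))
    (y := (⟨w, mem_centralizer_singleton_iff.2 hw⟩ : centralizer ({gn .a} : Set Spor.He)))
    (by rw [← Subgroup.orderOf_coe]; exact w0_order) (by rw [← Subgroup.orderOf_coe]; exact h7)
  have hga : g * gn .a = gn .a * g := mem_centralizer_singleton_iff.1 hgm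
  have hg' : g * w0 * g⁻¹ = w ^ n := congrArg Subtype.val hg
  have hkn : k * w ^ n * k⁻¹ = (w ^ n)⁻¹ := by rw [← conj_pow, hi, inv_pow]
  have h1 : (g⁻¹ * k * g) * w0 * (g⁻¹ * k * g)⁻¹ = w0⁻¹ := by
    have e1 : (g⁻¹ * k * g) * w0 * (g⁻¹ * k * g)⁻¹ = g⁻¹ * (k * (g * w0 * g⁻¹) * k⁻¹) * g := by group
    rw [e1, hg', hkn, ← hg']
    group
  have h2 : (g⁻¹ * k * g) * gn .a = gn .a * (g⁻¹ * k * g) := by
    have c1 : Commute g (gn .a) := hga
    have c2 : Commute k (gn .a) := hk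
    exact ((c1.inv_left.mul_left c2).mul_left c1).eq
  -- an element of `L`
  have key : ∀ l : Spor.He, l ∈ L → l * w0 * l⁻¹ = w0⁻¹ → False := by
    intro l hl hlw
    have h3 : (⟨l, hl⟩ : ↥L) * ⟨w0, w0_mem⟩ * (⟨l, hl⟩ : ↥L)⁻¹ = (⟨w0, w0_mem⟩ : ↥L)⁻¹ := Subtype.ext hlw
    have h4 := congrArg Th h3
    rw [map_mul, map_mul, map_inv, map_inv, Th_w0] at h4
    exact psl_no_inv _ h4
  rcases mem_C_of_comm h2 with h3 | h3
  · exact key _ h3 h1
  · refine key _ h3 ?_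
    have e1 : (g⁻¹ * k * g * s) * w0 * (g⁻¹ * k * g * s)⁻¹ = (g⁻¹ * k * g) * (s * w0 * s⁻¹) * (g⁻¹ * k * g)⁻¹ := by group
    rw [e1, s_comm_w0, mul_inv_cancel_right, h1]

end Cfsg.Agent.H266.LB
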