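import Mathlib

/-!
# The inertial index at an element of order 7 is three (abstract part; helper266, for S4879)
-/

set_option autoImplicit false

namespace Cfsg.Agent.H266.LB

open Subgroup

/-- **The index is three** -/
theorem ind_three {S : Type*} [Group S] [Finite S] (P : Sylow 7 S) (hP : Nat.card P = 7 ^ 2) {x : S}
    (hx : x ∈ (P : Subgroup S)) (hx7 : orderOf x = 7)
    (hno : ∀ y g : S, orderOf y = 7 → y * x = x * y → g * x = x * g → g * y * g⁻¹ = y⁻¹ → False)
    (hex : ∃ y k : S, orderOf y = 7 ∧ y * x = x * y ∧ k * x = x * k ∧ k * y * k⁻¹ = y ^ 2) :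
    (centralizer ((P : Subgroup S) : Set S)).relIndex
      (normalizer ((P : Subgroup S) : Set S) ⊓ centralizer ({x} : Set S)) = 3 := by
  classical
  have hp7 : Fact (Nat.Prime 7) := ⟨by norm_num⟩
  have hx1 : x ≠ 1 := by
    rintro rfl
    rw [orderOf_one] at hx7
    norm_num at hx7
  -- `P` is commutative
  have hab : ∀ a ∈ (P : Subgroup S), ∀ b ∈ (P : Subgroup S), a * b = b * a := by
    have h1 : Nat.card (P : Subgroup S) = 7 ^ 2 := hP
    have h2 := IsPGroup.isMulCommutative_of_card_eq_prime_sq h1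
    intro a ha b hb
    exact congrArg Subtype.val (h2.is_comm.comm ⟨a, ha⟩ ⟨b, hb⟩)
  set A : Subgroup S := centralizer ((P : Subgroup S) : Set S) with hA
  set W : Subgroup S := normalizer ((P : Subgroup S) : Set S) ⊓ centralizer ({x} : Set S) with hW
  have hPA : (P : Subgroup S) ≤ A := fun a ha => mem_centralizer_iff.2 fun b hb => hab b hb a ha
  have hAW : A ≤ W := by
    intro a ha
    refine ⟨?_, mem_centralizer_singleton_iff.2 (mem_centralizer_iff.1 ha x hx).symm⟩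
    exact centralizer_le_normalizer _ ha
  -- the index is prime to 7
  have hc7 : ¬ 7 ∣ A.relIndex W := by
    intro h
    have h1 : A.relIndex W ∣ A.index := ⟨W.index, (relIndex_mul_index hAW).symm⟩
    exact P.not_dvd_index (h.trans (h1.trans (index_dvd_of_le hPA)))
  -- the homomorphism
  let ι : ↥W →* ↥(normalizer ((P : Subgroup S) : Set S)) := inclusion inf_le_left
  let φ : ↥W →* MulAut ↥(P : Subgroup S) := (normalizerMonoidHom (P : Subgroup S)).comp ι
  have hφ : ∀ (w : ↥W) (v : ↥(P : Subgroup S)), ((φ w v : ↥(P : Subgroup S)) : S) = (w : S) * v * (w : S)⁻¹ :=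
    fun w v => rfl
  have hker : φ.ker = A.subgroupOf W := by
    ext w
    rw [MonoidHom.mem_ker, mem_subgroupOf, mem_centralizer_iff]
    constructor
    · intro h v hv
      have h1 : ((φ w ⟨v, hv⟩ : ↥(P : Subgroup S)) : S) = v := by rw [h]; rfl
      rw [hφ] at h1
      exact (mul_inv_eq_iff_eq_mul.1 h1).symm
    · intro h
      apply MulEquiv.ext
      intro v
      apply Subtype.ext
      rw [hφ, ← h v v.2, mul_inv_cancel_right]
      rfl
  have hcR : A.relIndex W = Nat.card φ.range := by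
    show (A.subgroupOf W).index = _
    rw [← hker]
    exact (index_ker φ)
  rw [hcR] at hc7 ⊢
  -- `x` is fixed
  have hRx : ∀ r ∈ φ.range, r ⟨x, hx⟩ = ⟨x, hx⟩ := by
    rintro _ ⟨w, rfl⟩
    apply Subtype.ext
    rw [hφ]
    have h1 : (w : S) * x = x * w := mem_centralizer_singleton_iff.1 w.2.2
    rw [h1, mul_inv_cancel_right]
  -- not even
  have hodd : ¬ 2 ∣ Nat.card φ.range := by
    intro h
    obtain ⟨r, hr⟩ := exists_prime_orderOf_dvd_card' (G := φ.range) 2 h
    obtain ⟨⟨r, w, rfl⟩, hr⟩ : ∃ r : φ.range, orderOf r = 2 := ⟨r, hr⟩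
    have hr2 : φ w * φ w = 1 := by
      have h1 := pow_orderOf_eq_one (⟨φ w, w, rfl⟩ : φ.range)
      rw [hr, pow_two] at h1
      exact congrArg Subtype.val h1
    have hr1 : φ w ≠ 1 := by
      intro h1
      have h2 : (⟨φ w, w, rfl⟩ : φ.range) = 1 := Subtype.ext h1
      rw [h2, orderOf_one] at hr
      norm_num at hr
    obtain ⟨v, hv⟩ : ∃ v, φ w v ≠ v := by
      by_contra hcon
      push Not at hcon
      exact hr1 (MulEquiv.ext hcon)
    have hpc : ∀ a b : ↥(P : Subgroup S), a * b = b * a := fun a b => Subtype.ext (hab a a.2 b b.2)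
    obtain ⟨y, hy⟩ : ∃ y, y = v⁻¹ * φ w v := ⟨_, rfl⟩
    have hy1 : y ≠ 1 := by
      rw [hy]
      intro h1
      exact hv (inv_mul_eq_one.1 h1).symm
    have hyi : φ w y = y⁻¹ := by
      have h1 : φ w (φ w v) = v := by
        have h2 : (φ w * φ w) v = v := by rw [hr2]; rfl
        exact h2
      rw [hy, map_mul, map_inv, h1, mul_inv_rev, inv_inv]
    have hyx : (y : S) * x = x * y := hab y y.2 x hx
    -- the order of `y`
    have hy7 : orderOf (y : S) = 7 ∨ orderOf (y : S) = 49 := by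
      have h1 : orderOf (y : ↥(P : Subgroup S)) ∣ 7 ^ 2 := by
        have h2 := orderOf_dvd_natCard y
        rwa [show Nat.card ↥(P : Subgroup S) = 7 ^ 2 from hP] at h2
      rw [← Subgroup.orderOf_coe] at h1
      obtain ⟨k, hk, hk'⟩ := (Nat.dvd_prime_pow hp7.out).1 h1
      interval_cases k
      · exfalso
        rw [pow_zero, orderOf_eq_one_iff] at hk'
        exact hy1 (Subtype.ext hk')
      · left; simpa using hk'
      · right; simpa using hk'
    have hyi' : (w : S) * y * (w : S)⁻¹ = (y : S)⁻¹ := by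
      rw [← hφ, hyi]
      rfl
    have hwx : (w : S) * x = x * w := mem_centralizer_singleton_iff.1 w.2.2
    rcases hy7 with h7 | h7
    · exact hno y w h7 hyx hwx hyi'
    · refine hno ((y : S) ^ 7) w ?_ ?_ hwx ?_
      · rw [orderOf_pow, h7]
        norm_num
      · exact ((show Commute (y : S) x from hyx).pow_left 7).eq
      · rw [← conj_pow, hyi', inv_pow]
  -- an element of order three
  obtain ⟨y₀, k₀, hy₀, hyx₀, hkx₀, hk₀⟩ := hex
  have hnm : y₀ ∉ zpowers x := by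
    rintro ⟨i, hi⟩
    have h1 : k₀ * y₀ = y₀ * k₀ := by
      rw [← hi]
      exact ((show Commute k₀ x from hkx₀).zpow_right i).eq
    rw [h1, mul_inv_cancel_right] at hk₀
    have h2 : y₀ = 1 := by
      have h3 : y₀ * 1 = y₀ * y₀ := by rw [mul_one, ← pow_two]; exact hk₀
      exact (mul_left_cancel h3).symm
    rw [h2, orderOf_one] at hy₀
    norm_num at hy₀
  -- the subgroup generated by `x` and `y₀` and its conjugate in `P`
  set C : Subgroup S := centralizer ({x} : Set S) with hC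
  have hPC : (P : Subgroup S) ≤ C := fun a ha => mem_centralizer_singleton_iff.2 (hab a ha x hx)
  have hconj : ∃ g ∈ C, g * y₀ * g⁻¹ ∈ (P : Subgroup S) := by
    -- the subgroup `⟨x, y₀⟩` of `C` is a 7-group
    let xc : ↥C := ⟨x, mem_centralizer_singleton_iff.2 rfl⟩
    let yc : ↥C := ⟨y₀, mem_centralizer_singleton_iff.2 hyx₀⟩
    have h1 : IsPGroup 7 (zpowers yc) := IsPGroup.of_card (n := 1) (by
      rw [Nat.card_zpowers, Subgroup.orderOf_mk, hy₀, pow_one])
    obtain ⟨Q, hQ⟩ := h1.exists_le_sylow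
    let P' : Sylow 7 ↥C := P.subtype hPC
    obtain ⟨g, hg⟩ := MulAction.exists_smul_eq (↥C) Q P'
    refine ⟨g, g.2, ?_⟩
    have h2 : yc ∈ (Q : Subgroup ↥C) := hQ (mem_zpowers yc)
    have h3 : g * yc * g⁻¹ ∈ (P' : Subgroup ↥C) := by
      rw [← hg, Sylow.coe_subgroup_smul]
      exact Subgroup.smul_mem_pointwise_smul yc (MulAut.conj g) (Q : Subgroup ↥C) h2
    exact h3
  obtain ⟨g, hgC, hgP⟩ := hconj
  have hgx : g * x = x * g := mem_centralizer_singleton_iff.1 hgC
  have cg : Commute g x := hgx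
  obtain ⟨y, hy⟩ : ∃ y, y = g * y₀ * g⁻¹ := ⟨_, rfl⟩
  obtain ⟨k, hk⟩ : ∃ k, k = g * k₀ * g⁻¹ := ⟨_, rfl⟩
  have hyP : y ∈ (P : Subgroup S) := by rw [hy]; exact hgP
  have hkx : Commute k x := by
    rw [hk]
    exact (cg.mul_left (show Commute k₀ x from hkx₀)).mul_left cg.inv_left
  have hky : k * y * k⁻¹ = y ^ 2 := by
    rw [hk, hy, conj_pow, ← hk₀]
    group
  have hy7 : orderOf y = 7 := by
    rw [hy, ← hy₀]
    exact MulEquiv.orderOf_eq (MulAut.conj g) y₀
  have hynm : y ∉ zpowers x := by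
    rintro ⟨i, hi⟩
    apply hnm
    refine ⟨i, ?_⟩
    have h1 : g⁻¹ * x ^ i * g = x ^ i := by
      rw [(cg.inv_left.zpow_right i).eq, inv_mul_cancel_right]
    have h2 : y₀ = g⁻¹ * y * g := by rw [hy]; group
    show x ^ i = y₀
    rw [h2, ← hi]
    exact h1.symm
  -- every element of `P` is `y ^ i * x ^ j`
  have hgen : ∀ v ∈ (P : Subgroup S), ∃ (i : ℕ) (j : ℤ), i < 7 ∧ v = y ^ i * x ^ j := by
    intro v hv
    let H : Subgroup ↥(P : Subgroup S) := zpowers ⟨x, hx⟩
    have hpc : ∀ a b : ↥(P : Subgroup S), a * b = b * a := fun a b => Subtype.ext (hab a a.2 b b.2)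
    have hHn : H.Normal := ⟨fun a ha b => by rw [hpc b a, mul_inv_cancel_right]; exact ha⟩
    have hHc : Nat.card H = 7 := by
      rw [Nat.card_zpowers, Subgroup.orderOf_mk, hx7]
    have hq : Nat.card (↥(P : Subgroup S) ⧸ H) = 7 := by
      have h1 := H.card_eq_card_quotient_mul_card_subgroup
      rw [hHc, show Nat.card ↥(P : Subgroup S) = 7 ^ 2 from hP] at h1
      omega
    have hy' : (QuotientGroup.mk ⟨y, hyP⟩ : ↥(P : Subgroup S) ⧸ H) ≠ 1 := by
      intro h1
      have h2 := (QuotientGroup.eq_one_iff _).1 h1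
      obtain ⟨i, hi⟩ := h2
      exact hynm ⟨i, congrArg Subtype.val hi⟩
    obtain ⟨i, hi⟩ := mem_powers_of_prime_card (g' := (QuotientGroup.mk ⟨v, hv⟩ : ↥(P : Subgroup S) ⧸ H)) hq hy'
    have hi' : ((QuotientGroup.mk ((⟨y, hyP⟩ : ↥(P : Subgroup S)) ^ i)) : ↥(P : Subgroup S) ⧸ H) =
      QuotientGroup.mk ⟨v, hv⟩ := hi
    obtain ⟨j, hj⟩ := QuotientGroup.eq.1 hi'
    have hj' : x ^ j = (y ^ i)⁻¹ * v := congrArg Subtype.val hj
    refine ⟨i % 7, j, Nat.mod_lt _ (by norm_num), ?_⟩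
    have h3 : y ^ 7 = 1 := by rw [← hy7, pow_orderOf_eq_one]
    rw [← pow_eq_pow_mod i h3, hj', mul_inv_cancel_left]
  -- an element of the range which moves `y` by a power of `x` is trivial
  have htriv : ∀ r ∈ φ.range, ∀ j : ℤ, ((r ⟨y, hyP⟩ : ↥(P : Subgroup S)) : S) = y * x ^ j → r = 1 := by
    intro r hr j hj
    have h1 : ∀ n : ℕ, (((r ^ n) ⟨y, hyP⟩ : ↥(P : Subgroup S)) : S) = y * (x ^ j) ^ n := by
      intro n
      induction n with
      | zero => rw [pow_zero, pow_zero, mul_one]; rfl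
      | succ n ih =>
        have h2 : (r ^ (n + 1)) ⟨y, hyP⟩ = r ((r ^ n) ⟨y, hyP⟩) := by rw [pow_succ', MulAut.mul_apply]
        have h3 : (r ^ n) ⟨y, hyP⟩ = ⟨y, hyP⟩ * (⟨x, hx⟩ ^ j) ^ n := Subtype.ext ih
        rw [h2, h3, map_mul, map_pow, map_zpow, hRx r hr]
        show ((r ⟨y, hyP⟩ : ↥(P : Subgroup S)) : S) * (x ^ j) ^ n = _
        rw [hj, mul_assoc, ← pow_succ']
    have h2 : (x ^ j) ^ 7 = 1 := by
      rw [← zpow_natCast, ← zpow_mul, mul_comm, zpow_mul, zpow_natCast, ← hx7, pow_orderOf_eq_one, one_zpow]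
    have h3 : r ^ 7 = 1 := by
      apply MulEquiv.ext
      intro v
      obtain ⟨i, j', -, hv⟩ := hgen v v.2
      have h4 : v = ⟨y, hyP⟩ ^ i * ⟨x, hx⟩ ^ j' := Subtype.ext hv
      have h5 : (r ^ 7) ⟨y, hyP⟩ = ⟨y, hyP⟩ := Subtype.ext (by rw [h1 7, h2, mul_one])
      have h6 : (r ^ 7) ⟨x, hx⟩ = ⟨x, hx⟩ := hRx _ (pow_mem hr 7)
      rw [h4, map_mul, map_pow, map_zpow, h5, h6]
      rfl
    by_contra hr1
    apply hc7
    have h4 : orderOf (⟨r, hr⟩ : φ.range) = 7 :=
      orderOf_eq_prime (Subtype.ext h3) (fun h => hr1 (congrArg Subtype.val h))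
    have h5 := orderOf_dvd_natCard (⟨r, hr⟩ : φ.range)
    rw [h4] at h5
    exact h5
  -- the upper bound
  have hle : Nat.card φ.range ≤ 6 := by
    have hchoose : ∀ r : φ.range, ∃ (i : Fin 6) (j : ℤ), ((r.1 ⟨y, hyP⟩ : ↥(P : Subgroup S)) : S) = y ^ ((i : ℕ) + 1) * x ^ j := by
      intro r
      obtain ⟨i, j, hi, hv⟩ := hgen _ (r.1 ⟨y, hyP⟩).2
      rcases Nat.eq_zero_or_pos i with h0 | h0
      · exfalso
        rw [h0, pow_zero, one_mul] at hv
        -- then `y` is a power of `x`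
        have h1 : r.1 ⟨y, hyP⟩ = (⟨x, hx⟩ : ↥(P : Subgroup S)) ^ j := Subtype.ext hv
        have h2 : r.1 ((⟨x, hx⟩ : ↥(P : Subgroup S)) ^ j) = ⟨x, hx⟩ ^ j := by rw [map_zpow, hRx r.1 r.2]
        have h3 : (⟨y, hyP⟩ : ↥(P : Subgroup S)) = ⟨x, hx⟩ ^ j := r.1.injective (h1.trans h2.symm)
        exact hynm ⟨j, (congrArg Subtype.val h3).symm⟩
      · refine ⟨⟨i - 1, by omega⟩, j, ?_⟩
        rw [hv]
        show y ^ i * x ^ j = y ^ (i - 1 + 1) * x ^ j
        rw [Nat.sub_add_cancel h0]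
    choose f j hf using hchoose
    have hinj : Function.Injective f := by
      intro r r' hrr
      have h1 := hf r
      have h2 := hf r'
      rw [← hrr] at h2
      -- `r y = r' y x^m`
      have h3 : r.1 ⟨y, hyP⟩ = r'.1 ⟨y, hyP⟩ * (⟨x, hx⟩ : ↥(P : Subgroup S)) ^ (j r - j r') := by
        apply Subtype.ext
        show ((r.1 ⟨y, hyP⟩ : ↥(P : Subgroup S)) : S) = ((r'.1 ⟨y, hyP⟩ : ↥(P : Subgroup S)) : S) * x ^ (j r - j r')
        rw [h1, h2, mul_assoc, ← zpow_add]
        congr 2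
        ring
      have h4 : (r'.1)⁻¹ * r.1 = 1 := by
        refine htriv _ (mul_mem (inv_mem r'.2) r.2) (j r - j r') ?_
        have h5 : ((r'.1)⁻¹ * r.1) ⟨y, hyP⟩ = ⟨y, hyP⟩ * (⟨x, hx⟩ : ↥(P : Subgroup S)) ^ (j r - j r') := by
          rw [MulAut.mul_apply, h3, map_mul, map_zpow]
          have h6 : (r'.1)⁻¹ (r'.1 ⟨y, hyP⟩) = ⟨y, hyP⟩ := r'.1.symm_apply_apply _
          have h7 : (r'.1)⁻¹ ⟨x, hx⟩ = ⟨x, hx⟩ := hRx _ (inv_mem r'.2)
          rw [h6, h7]
        rw [h5]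
        rfl
      exact Subtype.ext (inv_mul_eq_one.1 h4).symm
    have h1 := Nat.card_le_card_of_injective f hinj
    have h2 : Nat.card (Fin 6) = 6 := by simp
    rwa [h2] at h1
  -- the element of order 3
  have hkW : k ∈ W := by
    refine ⟨?_, mem_centralizer_singleton_iff.2 hkx.eq⟩
    have h1 : ∀ v ∈ (P : Subgroup S), k * v * k⁻¹ ∈ (P : Subgroup S) := by
      intro v hv
      obtain ⟨i, j, -, rfl⟩ := hgen v hv
      have h2 : k * (y ^ i * x ^ j) * k⁻¹ = (k * y * k⁻¹) ^ i * (k * x ^ j * k⁻¹) := by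
        rw [conj_pow]
        group
      rw [h2, hky, (hkx.zpow_right j).eq, mul_inv_cancel_right]
      exact mul_mem (pow_mem (pow_mem hyP 2) i) (zpow_mem hx j)
    have h2 : (P : Subgroup S).map (MulAut.conj k).toMonoidHom = P := by
      apply eq_of_le_of_card_ge
      · rintro _ ⟨v, hv, rfl⟩
        exact h1 v hv
      · rw [card_map_of_injective (MulAut.conj k).injective]
    show k ∈ normalizer ((P : Subgroup S) : Set S)
    rw [mem_normalizer_iff]
    intro v
    constructor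
    · exact h1 v
    · intro hv
      rw [← h2] at hv
      obtain ⟨v', hv', he⟩ := hv
      have h3 : v' = v := (MulAut.conj k).injective he
      rw [← h3]
      exact hv'
  have h3 : 3 ∣ Nat.card φ.range := by
    have hr : φ ⟨k, hkW⟩ ∈ φ.range := ⟨_, rfl⟩
    have h1 : φ ⟨k, hkW⟩ ⟨y, hyP⟩ = ⟨y, hyP⟩ ^ 2 := Subtype.ext (by
      rw [hφ]
      exact hky)
    have h2 : (φ ⟨k, hkW⟩) ^ 3 = 1 := by
      refine htriv _ (pow_mem hr 3) 0 ?_
      have h4 : ((φ ⟨k, hkW⟩) ^ 3) ⟨y, hyP⟩ = ⟨y, hyP⟩ ^ 8 := by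
        rw [pow_succ, pow_two, MulAut.mul_apply, MulAut.mul_apply, h1, map_pow, map_pow, h1, map_pow, h1, ← pow_mul,
          ← pow_mul]
      rw [h4, zpow_zero, mul_one]
      show y ^ 8 = y
      have h5 : y ^ 7 = 1 := by rw [← hy7, pow_orderOf_eq_one]
      rw [pow_succ, h5, one_mul]
    have h4 : orderOf (⟨φ ⟨k, hkW⟩, hr⟩ : φ.range) = 3 := by
      have : Fact (Nat.Prime 3) := ⟨by norm_num⟩
      refine orderOf_eq_prime (Subtype.ext h2) ?_
      intro h5
      have h6 : φ ⟨k, hkW⟩ = 1 := congrArg Subtype.val h5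
      rw [h6] at h1
      have h7 : (⟨y, hyP⟩ : ↥(P : Subgroup S)) = ⟨y, hyP⟩ ^ 2 := h1
      have h8 : y * 1 = y * y := by rw [mul_one, ← pow_two]; exact congrArg Subtype.val h7
      have h9 : y = 1 := (mul_left_cancel h8).symm
      rw [h9, orderOf_one] at hy7
      norm_num at hy7
    have h5 := orderOf_dvd_natCard (⟨φ ⟨k, hkW⟩, hr⟩ : φ.range)
    rw [h4] at h5
    exact h5
  have hpos : 0 < Nat.card φ.range := Nat.card_pos
  omega

end Cfsg.Agent.H266.LB
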