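import Cfsg.Agent.H349.K6.SporSevenB
import Cfsg.Agent.H266.LB.HeInv
import Cfsg.Agent.H266.LB.IndThree

/-!
# The Baby Monster, `p = 7`: the inertial index of `B₀(C(x))` is three (helper266, for S4879)

`c_three` : `|N(P) ∩ C(x) : C(P)| = 3` for a Sylow 7-subgroup `P` of `B` and `x ∈ P`, `x ≠ 1`.
-/

set_option autoImplicit false
set_option maxRecDepth 100000

namespace Cfsg.Agent.H266.LB

open Cfsg Subgroup

universe u v

section M

open Cfsg.Agent.BpTab Cfsg.Agent.CpAutBFive Cfsg.Agent.MFive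
open Cfsg.Agent.LThreeMB (fr Zx XX KChart.Cent KChart.pi KChart.chart mk mk_eq_one mk_eq_mk mk_congr mk_mul exists_mk
  conj_comm tt)
open Cfsg.Agent.MonsterU Cfsg.Agent.MonsterU.Ch
open Cfsg.Agent.MonsterX
open Cfsg.Agent.MonsterU.Lam2 (L2)
open Cfsg.Spor (Co1)
open Cfsg.Agent.KFacts.He.Lv
open Cfsg.Agent.H349.K6.B (small_of_conj)

/-- the homomorphism of `C(x)` to `He`, for `x` in `C(z)` -/
theorem exists_pi0 {x : centralizer ({KDone.K.z} : Set ↥InstData.M.G)} (hx : orderOf x = 7) {t : ↥InstData.M.G}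
    (ht : orderOf t = 2) (hxt : (x : ↥InstData.M.G) * t = t * x) (hnt : ∀ d : ↥InstData.M.G, d * t * d⁻¹ ≠ KDone.K.z) :
    ∃ π : ↥(centralizer ({(x : ↥InstData.M.G)} : Set ↥InstData.M.G)) →* Spor.He,
      (∀ c, π c = 1 → ∃ i : ℤ, (x : ↥InstData.M.G) ^ i = c) ∧
      π ⟨t, mem_centralizer_singleton_iff.2 hxt.symm⟩ = gn .a := by
  have := MFive.Row.finite_model
  have h := KChart.chart KDone.lft MFive.Row.hc
  have hp : Nat.Prime 7 := by norm_num
  rcases CpAutMSeven.Ranks.hranks _ (MFive.orderOf_pi h hp (by decide) hx) with h6 | h6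
  · obtain ⟨d, hd⟩ := BpMon.BSeven.conj_z hx h6 ht hxt
    exfalso
    refine hnt d⁻¹ ?_
    rw [← hd]
    group
  obtain ⟨e⟩ : Spor.IsoHe (XX (x : ↥InstData.M.G)) := CpAutMSeven.ZeroComps.heSix x hx h6
  have hxo : orderOf (x : ↥InstData.M.G) = 7 := by rw [Subgroup.orderOf_coe, hx]
  have hxp : (x : ↥InstData.M.G) ^ 7 = 1 := by rw [← hxo, pow_orderOf_eq_one]
  have htt : t * t = 1 := by rw [← pow_two, ← ht, pow_orderOf_eq_one]
  have ht1 : t ≠ 1 := by
    intro h1
    rw [h1, orderOf_one] at ht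
    exact absurd ht (by norm_num)
  -- an involution commuting with `x` is not in `⟨x⟩`
  have hpow : ∀ s : ↥InstData.M.G, s * s = 1 → s ^ 7 = s := fun s hs => by
    rw [show 7 = 2 * 3 + 1 by norm_num, pow_succ, pow_mul, pow_two, hs, one_pow, one_mul]
  have hinv : ∀ s : ↥InstData.M.G, s * s = 1 → s ≠ 1 → ∀ hs : s * (x : ↥InstData.M.G) = x * s,
      mk (x : ↥InstData.M.G) hs * mk (x : ↥InstData.M.G) hs = 1 ∧ mk (x : ↥InstData.M.G) hs ≠ 1 := by
    intro s hss hs1 hs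
    constructor
    · rw [mk_mul hs hs (by rw [hss, one_mul, mul_one])]
      rw [mk_congr _ (by rw [one_mul, mul_one]) hss]
      rfl
    · intro h1
      obtain ⟨i, hi⟩ := (mk_eq_one hs).1 h1
      apply hs1
      have h2 : s ^ 7 = 1 := by rw [← hi, ← zpow_natCast, ← zpow_mul, mul_comm, zpow_mul, zpow_natCast, hxp, one_zpow]
      rwa [hpow s hss] at h2
  have hcl : ∀ (s : ↥InstData.M.G) (hs : s * (x : ↥InstData.M.G) = x * s), s * s = 1 → s ≠ 1 →
      IsConj CTwoTab.He.z (e (mk (x : ↥InstData.M.G) hs)) ∨ IsConj (gn .a) (e (mk (x : ↥InstData.M.G) hs)) := by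
    intro s hs hss hs1
    obtain ⟨h1, h2⟩ := hinv s hss hs1 hs
    exact CTwoTab.He.classes (by rw [← map_mul, h1, map_one]) (by rwa [ne_eq, e.map_eq_one_iff])
  have hzz : KDone.K.z * KDone.K.z = 1 := h.large.z_sq
  have hzx : KDone.K.z * (x : ↥InstData.M.G) = x * KDone.K.z := (mem_centralizer_singleton_iff.1 x.2).symm
  have hz : IsConj CTwoTab.He.z (e (tt x)) := by
    rcases hcl KDone.K.z hzx hzz h.large.z_ne with h1 | h1
    · exact h1
    · exact absurd (small_of_conj h1) (BpMon.not_small h hp (by norm_num) hx (by rw [h6]; norm_num) ⟨6, h6⟩ e)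
  have hτ : IsConj (gn .a) (e (mk (x : ↥InstData.M.G) hxt.symm)) := by
    rcases hcl t hxt.symm htt ht1 with h1 | h1
    · exfalso
      obtain ⟨c, hc⟩ := isConj_iff.1 (h1.symm.trans hz)
      obtain ⟨c, rfl⟩ := e.surjective c
      rw [← map_mul, ← map_inv, ← map_mul] at hc
      obtain ⟨g, hg, rfl⟩ := exists_mk c
      have hc2 := e.injective hc
      have h3 : mk (x : ↥InstData.M.G) (conj_comm hg hxt.symm) = mk (x : ↥InstData.M.G) hzx := hc2
      obtain ⟨i, hi⟩ := (mk_eq_mk _ _).1 h3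
      -- `g t g⁻¹ x^i = z`
      apply hnt g
      have hcx : Commute (g * t * g⁻¹) ((x : ↥InstData.M.G) ^ i) :=
        (show Commute (g * t * g⁻¹) (x : ↥InstData.M.G) from conj_comm hg hxt.symm).zpow_right i
      have h4 : (g * t * g⁻¹ * (x : ↥InstData.M.G) ^ i) ^ 7 = KDone.K.z ^ 7 := by rw [hi]
      have h5 : (g * t * g⁻¹) * (g * t * g⁻¹) = 1 := by
        calc (g * t * g⁻¹) * (g * t * g⁻¹) = g * (t * t) * g⁻¹ := by group
          _ = 1 := by rw [htt]; group
      rw [hcx.mul_pow, hpow _ h5, hpow _ hzz, ← zpow_natCast ((x : ↥InstData.M.G) ^ i), ← zpow_mul, mul_comm i,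
        zpow_mul, zpow_natCast, hxp, one_zpow, mul_one] at h4
      exact h4
    · exact h1
  obtain ⟨c, hc⟩ := isConj_iff.1 hτ
  let π₀ : ↥(centralizer ({(x : ↥InstData.M.G)} : Set ↥InstData.M.G)) →* Spor.He :=
    e.toMonoidHom.comp (QuotientGroup.mk' (Zx (x : ↥InstData.M.G)))
  refine ⟨(MulAut.conj c⁻¹).toMonoidHom.comp π₀, ?_, ?_⟩
  · intro d hd
    have h4 : (MulAut.conj c⁻¹) (π₀ d) = 1 := hd
    rw [MulEquiv.map_eq_one_iff] at h4
    have h5 : e (mk (x : ↥InstData.M.G) (mem_centralizer_singleton_iff.1 d.2)) = 1 := h4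
    rw [e.map_eq_one_iff] at h5
    exact (mk_eq_one (mem_centralizer_singleton_iff.1 d.2)).1 h5
  · have h4 : π₀ ⟨t, mem_centralizer_singleton_iff.2 hxt.symm⟩ = e (mk (x : ↥InstData.M.G) hxt.symm) := rfl
    show (MulAut.conj c⁻¹) (π₀ ⟨t, mem_centralizer_singleton_iff.2 hxt.symm⟩) = gn .a
    rw [h4, ← hc, MulAut.conj_apply]
    group

/-- **An element of order 7 of `C(x) ∩ C(v)` is not inverted in `C(x) ∩ C(v)`**, `v` a 2A-involution. -/
theorem m_no_inv {v y u k : ↥InstData.M.G} (hv : IsConj BpSpor.BCover.t v) (hy : orderOf y = 7) (hyv : y * v = v * y)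
    (hu : orderOf u = 7) (huv : u * v = v * u) (huy : u * y = y * u) (hkv : k * v = v * k) (hky : k * y = y * k)
    (hi : k * u * k⁻¹ = u⁻¹) : False := by
  have := MFive.Row.finite_model
  have ht := RowB.orderOf_t hv
  have hnt := RowB.not_conj hv
  have he : 2 ∣ Nat.card ↥(centralizer ({y} : Set ↥InstData.M.G)) := by
    have h1 : orderOf (⟨v, mem_centralizer_singleton_iff.2 hyv.symm⟩ : ↥(centralizer ({y} : Set ↥InstData.M.G))) = 2 := by
      rw [← Subgroup.orderOf_coe]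
      exact ht
    rw [← h1]
    exact orderOf_dvd_natCard _
  obtain ⟨g, hg⟩ := MSevenT.hex7 y hy he
  have h1 : (g⁻¹ * y * g) * KDone.K.z = KDone.K.z * (g⁻¹ * y * g) := by
    calc (g⁻¹ * y * g) * KDone.K.z = g⁻¹ * (y * (g * KDone.K.z * g⁻¹)) * g := by group
      _ = g⁻¹ * ((g * KDone.K.z * g⁻¹) * y) * g := by rw [hg]
      _ = KDone.K.z * (g⁻¹ * y * g) := by group
  obtain ⟨x', hx'⟩ : ∃ x' : centralizer ({KDone.K.z} : Set ↥InstData.M.G), (x' : ↥InstData.M.G) = g⁻¹ * y * g :=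
    ⟨⟨g⁻¹ * y * g, mem_centralizer_singleton_iff.2 h1⟩, rfl⟩
  have hconj : ∀ c : ↥InstData.M.G, orderOf (g⁻¹ * c * g) = orderOf c := by
    intro c
    have h6 := MulEquiv.orderOf_eq (MulAut.conj g⁻¹) c
    rwa [MulAut.conj_apply, inv_inv] at h6
  have hx7 : orderOf x' = 7 := by rw [← Subgroup.orderOf_coe, hx', hconj, hy]
  -- transport of commutation
  have hcomm : ∀ c d : ↥InstData.M.G, c * d = d * c → (g⁻¹ * c * g) * (g⁻¹ * d * g) = (g⁻¹ * d * g) * (g⁻¹ * c * g) := by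
    intro c d hcd
    calc (g⁻¹ * c * g) * (g⁻¹ * d * g) = g⁻¹ * (c * d) * g := by group
      _ = g⁻¹ * (d * c) * g := by rw [hcd]
      _ = _ := by group
  have h4 : (x' : ↥InstData.M.G) * (g⁻¹ * v * g) = (g⁻¹ * v * g) * x' := by
    rw [hx']
    exact hcomm y v hyv
  obtain ⟨π, hπ, hπv⟩ := exists_pi0 hx7 (t := g⁻¹ * v * g) (by rw [hconj, ht]) h4 (by
    intro d hd
    refine hnt (d * g⁻¹) ?_
    rw [← hd]
    group)
  have hx'7 : (x' : ↥InstData.M.G) ^ 7 = 1 := by
    rw [← hx7, ← Subgroup.coe_pow, pow_orderOf_eq_one, Subgroup.coe_one]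
  -- the elements of `C(x')`
  have mu : g⁻¹ * u * g ∈ centralizer ({(x' : ↥InstData.M.G)} : Set ↥InstData.M.G) := by
    rw [mem_centralizer_singleton_iff, hx']
    exact hcomm u y huy
  have mk' : g⁻¹ * k * g ∈ centralizer ({(x' : ↥InstData.M.G)} : Set ↥InstData.M.G) := by
    rw [mem_centralizer_singleton_iff, hx']
    exact hcomm k y hky
  have hvm : ∀ c (hc : g⁻¹ * c * g ∈ centralizer ({(x' : ↥InstData.M.G)} : Set ↥InstData.M.G)), c * v = v * c →
      π ⟨g⁻¹ * c * g, hc⟩ * gn .a = gn .a * π ⟨g⁻¹ * c * g, hc⟩ := by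
    intro c hc hcv
    rw [← hπv, ← map_mul, ← map_mul]
    congr 1
    exact Subtype.ext (hcomm c v hcv)
  have hcube : (⟨g⁻¹ * u * g, mu⟩ : ↥(centralizer ({(x' : ↥InstData.M.G)} : Set ↥InstData.M.G))) ^ 7 = 1 := by
    apply Subtype.ext
    rw [Subgroup.coe_pow, Subgroup.coe_one, ← hu, ← hconj u, pow_orderOf_eq_one]
  have hki : (⟨g⁻¹ * k * g, mk'⟩ : ↥(centralizer ({(x' : ↥InstData.M.G)} : Set ↥InstData.M.G))) * ⟨g⁻¹ * u * g, mu⟩ *
      ⟨g⁻¹ * k * g, mk'⟩⁻¹ = ⟨g⁻¹ * u * g, mu⟩⁻¹ := by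
    apply Subtype.ext
    show g⁻¹ * k * g * (g⁻¹ * u * g) * (g⁻¹ * k * g)⁻¹ = (g⁻¹ * u * g)⁻¹
    have e1 : g⁻¹ * k * g * (g⁻¹ * u * g) * (g⁻¹ * k * g)⁻¹ = g⁻¹ * (k * u * k⁻¹) * g := by group
    rw [e1, hi]
    group
  have h7 : orderOf (π ⟨g⁻¹ * u * g, mu⟩) = 7 := by
    have : Fact (Nat.Prime 7) := ⟨by norm_num⟩
    refine orderOf_eq_prime (by rw [← map_pow, hcube, map_one]) ?_
    intro h5
    obtain ⟨i, hi'⟩ := hπ _ h5
    -- `u` is a power of `y`, so `k` commutes with `u`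
    have h6 : (x' : ↥InstData.M.G) ^ i = g⁻¹ * u * g := hi'
    have h7 : y ^ i = u := by
      rw [hx'] at h6
      have e1 : (g⁻¹ * y * g) ^ i = g⁻¹ * y ^ i * g := by
        have e2 := conj_zpow (i := i) (a := g⁻¹) (b := y)
        rwa [inv_inv] at e2
      rw [e1] at h6
      exact mul_left_cancel (mul_right_cancel h6)
    have h8 : k * u * k⁻¹ = u := by
      rw [← h7, ((show Commute k y from hky).zpow_right i).eq, mul_inv_cancel_right]
    rw [h8] at hi
    have h9 : u ^ 2 = 1 := by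
      rw [pow_two]
      nth_rewrite 2 [hi]
      exact mul_inv_cancel u
    have h10 := orderOf_dvd_of_pow_eq_one h9
    rw [hu] at h10
    exact absurd (Nat.le_of_dvd (by norm_num) h10) (by norm_num)
  refine he_no_inv (hvm k mk' hkv) (hvm u mu huv) h7 ?_
  rw [← map_inv, ← map_mul, ← map_mul, hki, map_inv]

end M

/-! ### the Baby Monster -/

section B

variable {L : Type u} [Group L]

/-- **the facts at an element of order 7 of `B`** -/
theorem b_facts (h : Spor.IsoB L) {x : L} (hx : orderOf x = 7) :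
    (∀ y g : L, orderOf y = 7 → y * x = x * y → g * x = x * g → g * y * g⁻¹ = y⁻¹ → False) ∧
      ∃ y k : L, orderOf y = 7 ∧ y * x = x * y ∧ k * x = x * k ∧ k * y * k⁻¹ = y ^ 2 := by
  have hfin := MFive.Row.finite_model
  obtain ⟨t, ht, h2, ⟨e⟩⟩ := H436.B7.exists_cover h
  obtain ⟨q, hq⟩ : ∃ q : ↥(centralizer ({t} : Set ↥MonsterX.InstData.M.G)) →* L, q =
    e.toMonoidHom.comp (QuotientGroup.mk' (center ↥(centralizer ({t} : Set ↥MonsterX.InstData.M.G)))) := ⟨_, rfl⟩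
  have hqs : Function.Surjective q := by
    rw [hq]
    exact e.surjective.comp (QuotientGroup.mk'_surjective _)
  have hqz : ∀ c, q c = 1 → c ∈ center ↥(centralizer ({t} : Set ↥MonsterX.InstData.M.G)) := by
    intro c hc
    rw [hq] at hc
    have h3 : e (QuotientGroup.mk c) = 1 := hc
    rwa [map_eq_one_iff e e.injective, QuotientGroup.eq_one_iff] at h3
  have hqk : ∀ c, q c = 1 → c ^ 2 = 1 := by
    intro c hc
    have h3 := hqz c hc
    have h4 : (⟨c, h3⟩ : ↥(center ↥(centralizer ({t} : Set ↥MonsterX.InstData.M.G)))) ^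
      Nat.card ↥(center ↥(centralizer ({t} : Set ↥MonsterX.InstData.M.G))) = 1 := pow_card_eq_one'
    rw [h2] at h4
    exact congrArg Subtype.val h4
  -- lifts of elements of order 7
  have hlift : ∀ z : L, orderOf z = 7 → ∃ c, q c = z ∧ orderOf c = 7 := by
    intro z hz
    obtain ⟨c, hc⟩ := hqs z
    have hz7 : z ^ 7 = 1 := by rw [← hz, pow_orderOf_eq_one]
    have : Fact (Nat.Prime 7) := ⟨by norm_num⟩
    have hc8 : q (c ^ 8) = z := by rw [map_pow, hc, pow_succ, hz7, one_mul]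
    refine ⟨c ^ 8, hc8, orderOf_eq_prime ?_ ?_⟩
    · have h3 := hqk (c ^ 7) (by rw [map_pow, hc, hz7])
      rw [← pow_mul, show 8 * 7 = 7 * 2 * 4 from rfl, pow_mul, pow_mul, h3, one_pow]
    · intro h3
      rw [h3, map_one] at hc8
      rw [← hc8, orderOf_one] at hz
      norm_num at hz
  -- uniqueness
  have huniq : ∀ c d, c ^ 7 = 1 → d ^ 7 = 1 → q c = q d → c = d := by
    intro c d hc hd hcd
    have h3 : q (c * d⁻¹) = 1 := by rw [map_mul, map_inv, hcd, mul_inv_cancel]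
    have h4 := hqk _ h3
    have h5 : Commute (c * d⁻¹) d := (mem_center_iff.1 (hqz _ h3) d).symm
    have h6 : (c * d⁻¹) ^ 7 = 1 := by
      have h7 : c = (c * d⁻¹) * d := by group
      have h8 : c ^ 7 = (c * d⁻¹) ^ 7 * d ^ 7 := by
        conv_lhs => rw [h7]
        exact h5.mul_pow 7
      rw [hc, hd, mul_one] at h8
      exact h8.symm
    have h7 : c * d⁻¹ = 1 := by
      have h8 : (c * d⁻¹) ^ 7 = ((c * d⁻¹) ^ 2) ^ 3 * (c * d⁻¹) := by rw [← pow_mul, ← pow_succ]
      rw [h6, h4, one_pow, one_mul] at h8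
      exact h8.symm
    exact mul_inv_eq_one.1 h7
  -- commuting lifts
  have hcomm : ∀ c d, orderOf c = 7 → q d * q c = q c * q d → d * c = c * d := by
    intro c d hc hcd
    have h3 : d * c * d⁻¹ = c := by
      have hc7 : c ^ 7 = 1 := by rw [← hc, pow_orderOf_eq_one]
      refine huniq _ _ (by rw [conj_pow, hc7, mul_one, mul_inv_cancel]) hc7 ?_
      rw [map_mul, map_mul, map_inv, hcd, mul_inv_cancel_right]
    exact mul_inv_eq_iff_eq_mul.1 h3
  obtain ⟨c, hc, hc7⟩ := hlift x hx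
  have h7 : ∀ c, orderOf c = 7 → orderOf (q c) = 7 := by
    intro c hc
    have : Fact (Nat.Prime 7) := ⟨by norm_num⟩
    refine orderOf_eq_prime ?_ ?_
    · rw [← map_pow, ← hc, pow_orderOf_eq_one, map_one]
    · intro h3
      have h4 := orderOf_dvd_of_pow_eq_one (hqk c h3)
      rw [hc] at h4
      exact absurd (Nat.le_of_dvd (by norm_num) h4) (by norm_num)
  constructor
  · intro y g hy hyx hgx hi
    obtain ⟨d, hd, hd7⟩ := hlift y hy
    obtain ⟨k, hk⟩ := hqs g
    have a1 : d * c = c * d := hcomm c d hc7 (by rw [hc, hd, hyx])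
    have a2 : k * c = c * k := hcomm c k hc7 (by rw [hc, hk, hgx])
    have a3 : k * d * k⁻¹ = d⁻¹ := by
      have hd1 : d ^ 7 = 1 := by rw [← hd7, pow_orderOf_eq_one]
      refine huniq _ _ (by rw [conj_pow, hd1, mul_one, mul_inv_cancel]) (by rw [inv_pow, hd1, inv_one]) ?_
      rw [map_mul, map_mul, map_inv, map_inv, hk, hd, hi]
    refine m_no_inv (v := t) (y := (c : ↥MonsterX.InstData.M.G)) (u := d) (k := k) ht
      (by rw [Subgroup.orderOf_coe, hc7]) (mem_centralizer_singleton_iff.1 c.2) (by rw [Subgroup.orderOf_coe, hd7])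
      (mem_centralizer_singleton_iff.1 d.2) (congrArg Subtype.val a1) (mem_centralizer_singleton_iff.1 k.2)
      (congrArg Subtype.val a2) (congrArg Subtype.val a3)
  · obtain ⟨U, H, a1, a2, a3, a4, a5, a6⟩ := H349.K6.B.exists_gen ht (y := (c : ↥MonsterX.InstData.M.G))
      (by rw [Subgroup.orderOf_coe, hc7]) (mem_centralizer_singleton_iff.1 c.2)
    obtain ⟨U', hU'⟩ : ∃ U' : ↥(centralizer ({t} : Set ↥MonsterX.InstData.M.G)), (U' : ↥MonsterX.InstData.M.G) = U :=
      ⟨⟨U, mem_centralizer_singleton_iff.2 a4⟩, rfl⟩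
    obtain ⟨H', hH'⟩ : ∃ H' : ↥(centralizer ({t} : Set ↥MonsterX.InstData.M.G)), (H' : ↥MonsterX.InstData.M.G) = H :=
      ⟨⟨H, mem_centralizer_singleton_iff.2 a5⟩, rfl⟩
    have b2 : U' * c = c * U' := Subtype.ext (by
      show (U' : ↥MonsterX.InstData.M.G) * c = c * U'
      rw [hU', a2])
    have b3 : H' * c = c * H' := Subtype.ext (by
      show (H' : ↥MonsterX.InstData.M.G) * c = c * H'
      rw [hH', a3])
    have b6 : H' * U' * H'⁻¹ = U' ^ 2 := Subtype.ext (by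
      show (H' : ↥MonsterX.InstData.M.G) * U' * (H' : ↥MonsterX.InstData.M.G)⁻¹ = (U' : ↥MonsterX.InstData.M.G) ^ 2
      rw [hH', hU', a6])
    refine ⟨q U', q H', h7 U' (by rw [← Subgroup.orderOf_coe, hU', a1]), ?_, ?_, ?_⟩
    · rw [← hc, ← map_mul, ← map_mul, b2]
    · rw [← hc, ← map_mul, ← map_mul, b3]
    · rw [← map_inv, ← map_mul, ← map_mul, b6, map_pow]

/-- **The Baby Monster, `p = 7`: the inertial index of `C(x)` is three.** -/
theorem c_three [Finite L] (h : Spor.IsoB L) (P : Sylow 7 L) {x : L} (hx : x ∈ (P : Subgroup L)) (hx7 : orderOf x = 7) :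
    (centralizer ((P : Subgroup L) : Set L)).relIndex
      (normalizer ((P : Subgroup L) : Set L) ⊓ centralizer ({x} : Set L)) = 3 := by
  have h7 : Fact (Nat.Prime 7) := ⟨by norm_num⟩
  have hcL : Nat.card L = 4154781481226426191177580544000000 := by
    obtain ⟨e⟩ := h
    rw [Nat.card_congr e.toEquiv, BM.KHAll.card_B]
  have hP : Nat.card P = 7 ^ 2 := by
    obtain ⟨n, hn⟩ := IsPGroup.iff_card.1 P.2
    have h1 : Nat.card P * (P : Subgroup L).index = Nat.card L := (P : Subgroup L).card_mul_index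
    have h2 := P.not_dvd_index
    rw [hcL, hn] at h1
    have h3 : 7 ^ n ∣ 4154781481226426191177580544000000 := ⟨_, h1.symm⟩
    have h4 : n < 3 := by
      by_contra h5
      push Not at h5
      exact absurd ((pow_dvd_pow 7 h5).trans h3) (by norm_num)
    rw [hn]
    interval_cases n
    · exfalso
      apply h2
      rw [pow_zero, one_mul] at h1
      rw [h1]
      norm_num
    · exfalso
      apply h2
      have h5 : (P : Subgroup L).index = 593540211603775170168225792000000 := by omega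
      rw [h5]
      norm_num
    · rfl
  obtain ⟨a1, a2⟩ := b_facts h hx7
  exact ind_three P hP hx hx7 a1 a2

/-- the same for `x ≠ 1` when `x ^ 7 = 1` -/
theorem c_three' [Finite L] (h : Spor.IsoB L) (P : Sylow 7 L) {x : L} (hx : x ∈ (P : Subgroup L)) (hx1 : x ≠ 1)
    (hexp : x ^ 7 = 1) :
    (centralizer ((P : Subgroup L) : Set L)).relIndex
      (normalizer ((P : Subgroup L) : Set L) ⊓ centralizer ({x} : Set L)) = 3 := by
  have h7 : Fact (Nat.Prime 7) := ⟨by norm_num⟩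
  exact c_three h P hx (orderOf_eq_prime hexp hx1)

end B

end Cfsg.Agent.H266.LB
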